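import Cfsg.Agent.Lib.UnitPrimeDim.Proper
import Cfsg.Agent.Lib.UnitTwoPrime.Tensor

/-!
In `SU_6(2)` the stabiliser of six orthogonal lines is not maximal: it fixes, setwise, a family of 126 isotropic
points, also fixed by a transvection permuting no lines.
-/

set_option autoImplicit false
set_option linter.unusedSectionVars false
set_option maxHeartbeats 1000000

namespace Cfsg.Agent.Lib.UnitSix

open scoped Matrix MatrixGroups
open Cfsg.Agent.Lib.UnitPrimeDim
open Cfsg.Agent.Lib.Classical (hermBilin hermBilin_apply conjHom conjHom_apply)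

/-- Addition of the field with four elements on codes. -/
def addC : Fin 4 → Fin 4 → Fin 4 := ![![0, 1, 2, 3], ![1, 0, 3, 2], ![2, 3, 0, 1], ![3, 2, 1, 0]]

/-- Multiplication of the field with four elements on codes. -/
def mulC : Fin 4 → Fin 4 → Fin 4 := ![![0, 0, 0, 0], ![0, 1, 2, 3], ![0, 2, 3, 1], ![0, 3, 1, 2]]

/-- The coded family. -/
def goodC (a : Fin 6 → Fin 4) : Bool :=
  ((Finset.univ.filter fun i => a i ≠ 0).card == 2) ||
    (((Finset.univ.filter fun i => a i ≠ 0).card == 6) &&
      (mulC (mulC (mulC (mulC (mulC (a 0) (a 1)) (a 2)) (a 3)) (a 4)) (a 5) == 1))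

/-- Adding the sum of the coordinates to every coordinate. -/
def moveC (a : Fin 6 → Fin 4) : Fin 6 → Fin 4 :=
  fun i => addC (a i) (addC (addC (addC (addC (addC (a 0) (a 1)) (a 2)) (a 3)) (a 4)) (a 5))

theorem moveC_good' : ∀ a b c d e f : Fin 4, goodC ![a, b, c, d, e, f] = true →
    goodC (moveC ![a, b, c, d, e, f]) = true := by decide +kernel

theorem moveC_good (a : Fin 6 → Fin 4) (h : goodC a = true) : goodC (moveC a) = true := by
  have e : a = ![a 0, a 1, a 2, a 3, a 4, a 5] := by funext i; fin_cases i <;> rfl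
  rw [e] at h ⊢
  exact moveC_good' _ _ _ _ _ _ h

variable {F : Type*} [Field F]

/-- Weight two, or weight six with product one. -/
def Good (x : Fin 6 → F) : Prop :=
  Nat.card {i // x i ≠ 0} = 2 ∨ ((∀ i, x i ≠ 0) ∧ ∏ i, x i = 1)

variable [Fintype F]

theorem two_zero (hF : Fintype.card F = 2 ^ 2) : (2 : F) = 0 := by
  have : ((Fintype.card F : ℕ) : F) = 0 := FiniteField.cast_card_eq_zero F
  rw [hF] at this
  push_cast at this
  have h4 : (2 : F) * 2 = 0 := by linear_combination this
  exact (mul_eq_zero.mp h4).elim id id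

/-- Adding the coordinate sum preserves the family. -/
theorem good_move (hF : Fintype.card F = 2 ^ 2) (x : Fin 6 → F) (h : Good x) :
    Good fun i => x i + ∑ j, x j := by
  classical
  have h2 := two_zero hF
  obtain ⟨w, hw0, hw1⟩ : ∃ w : F, w ≠ 0 ∧ w ≠ 1 := by
    by_contra hc
    push Not at hc
    have hle : Fintype.card F ≤ ({0, 1} : Finset F).card := by
      rw [← Finset.card_univ]
      refine Finset.card_le_card fun a _ => ?_
      by_cases ha : a = 0
      · simp [ha]
      · simp [hc a ha]
    have := Finset.card_le_two (a := (0 : F)) (b := 1)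
    omega
  have hw2 : w * w = w + 1 := by
    have h3 : w ^ 3 = 1 := by
      have := FiniteField.pow_card_sub_one_eq_one w hw0
      rwa [hF] at this
    have h0 : (w - 1) * (w * w + w + 1) = 0 := by linear_combination h3
    have h4 := (mul_eq_zero.1 h0).resolve_left (sub_ne_zero.2 hw1)
    linear_combination h4 - (w + 1) * h2
  let e : Fin 4 → F := ![0, 1, w, w + 1]
  have hw10 : w + 1 ≠ 0 := fun h' => hw1 (by linear_combination h' - h2)
  have einj : Function.Injective e := by
    intro a b hab
    fin_cases a <;> fin_cases b <;> simp [e] at hab ⊢ <;>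
      first
        | exact hw0 hab | exact hw0 hab.symm | exact hw1 hab | exact hw1 hab.symm
        | exact hw10 hab | exact hw10 hab.symm
        | exact hw0 (by linear_combination hab) | exact hw0 (by linear_combination -hab)
        | exact one_ne_zero (α := F) (by linear_combination hab)
        | exact one_ne_zero (α := F) (by linear_combination -hab)
  have ebij : Function.Bijective e :=
    (Fintype.bijective_iff_injective_and_card e).2 ⟨einj, by rw [Fintype.card_fin, hF]; norm_num⟩
  have eadd : ∀ a b, e (addC a b) = e a + e b := by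
    intro a b
    fin_cases a <;> fin_cases b <;> simp [e, addC] <;>
      first
        | ring1
        | linear_combination h2 | linear_combination -h2
        | linear_combination w * h2 | linear_combination -w * h2
        | linear_combination (w + 1) * h2 | linear_combination -(w + 1) * h2
  have emul : ∀ a b, e (mulC a b) = e a * e b := by
    intro a b
    fin_cases a <;> fin_cases b <;> simp [e, mulC] <;>
      first
        | ring1
        | linear_combination hw2 | linear_combination -hw2
        | linear_combination hw2 + w * h2 | linear_combination -hw2 - w * h2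
        | linear_combination hw2 + (w + 1) * h2 | linear_combination -hw2 - (w + 1) * h2
        | linear_combination -hw2 + w * h2 | linear_combination -hw2 + (w + 1) * h2
        | linear_combination -hw2 - h2 | linear_combination hw2 + h2
  have key : ∀ a : Fin 6 → Fin 4, Good (fun i => e (a i)) ↔ goodC a = true := by
    intro a
    have hne : ∀ i, e (a i) ≠ 0 ↔ a i ≠ 0 := fun i => by
      rw [show (0 : F) = e 0 from rfl]; exact einj.ne_iff
    have hcard : Nat.card {i // e (a i) ≠ 0} = (Finset.univ.filter fun i => a i ≠ 0).card := by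
      rw [Nat.card_eq_fintype_card, Fintype.card_subtype]
      simp only [hne]
    have hall : (∀ i, e (a i) ≠ 0) ↔ (Finset.univ.filter fun i => a i ≠ 0).card = 6 := by
      constructor
      · intro h
        rw [Finset.filter_true_of_mem fun i _ => (hne i).1 (h i), Finset.card_univ, Fintype.card_fin]
      · intro h i
        have := Finset.eq_univ_of_card _ (h.trans (Fintype.card_fin 6).symm)
        exact (hne i).2 (Finset.mem_filter.1 (this.ge (Finset.mem_univ i))).2
    have hprod : ∏ i, e (a i) = 1 ↔ mulC (mulC (mulC (mulC (mulC (a 0) (a 1)) (a 2)) (a 3)) (a 4)) (a 5) = 1 := by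
      rw [Fin.prod_univ_six, ← emul, ← emul, ← emul, ← emul, ← emul, show (1 : F) = e 1 from rfl, einj.eq_iff]
    simp only [Good, goodC, hcard, hall, hprod, Bool.or_eq_true, Bool.and_eq_true, beq_iff_eq]
  choose a ha using fun i => ebij.2 (x i)
  have hx : (fun i => e (a i)) = x := funext ha
  have hm : (fun i => x i + ∑ j, x j) = fun i => e (moveC a i) := by
    funext i
    simp only [moveC, eadd, ha, Fin.sum_univ_six]
  rw [hm, key]
  exact moveC_good a ((key a).1 (hx.symm ▸ h))

/-- The group of six orthogonal lines over four elements is not maximal. -/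
theorem lines_two (hF : Fintype.card F = 2 ^ 2) {H : Subgroup (GL (Fin 6) F)}
    (hH : Cfsg.Geo.IsMaximalIn (omegaU 6 F 2) H) {D : Fin 6 → Submodule F (Fin 6 → F)}
    (hD : Cfsg.Geo.IsNondegenerateMDecomposition (Cfsg.hermForm 6 F 2) 1 D)
    (hle : H ≤ Cfsg.Geo.decompositionStabilizer D) : False := by
  classical
  have h2 := two_zero hF
  set f := Cfsg.hermForm 6 F 2
  have hh : UnitTwoPrime.Herm (Geometry.frobQ hF) f := UnitTwoPrime.herm_hermForm hF
  have hσ : ∀ x, Geometry.frobQ hF x = x ^ 2 := Geometry.frobQ_apply hF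
  have h3 : ∀ x : F, x ≠ 0 → x ^ 3 = 1 := fun x hx => by
    have := FiniteField.pow_card_sub_one_eq_one x hx
    rwa [hF] at this
  -- an orthonormal basis along the lines
  have hex : ∀ i, ∃ b, b ∈ D i ∧ f b b = 1 ∧ ∀ v ∈ D i, ∃ c : F, v = c • b := by
    intro i
    obtain ⟨⟨b, hb⟩, hb0, hsp⟩ := finrank_eq_one_iff'.1 (hD.decomp.finrank_eq i)
    have hsp' : ∀ v ∈ D i, ∃ c : F, v = c • b := fun v hv => by
      obtain ⟨c, hc⟩ := hsp ⟨v, hv⟩
      exact ⟨c, (congrArg Subtype.val hc).symm⟩
    have hne : f b b ≠ 0 := by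
      intro h0
      obtain ⟨⟨x, hx, hxb⟩, -⟩ := hD.nondegenerate i b hb fun e => hb0 (Subtype.ext e)
      obtain ⟨c, rfl⟩ := hsp' x hx
      exact hxb (by rw [hh.smul_left, h0, mul_zero])
    refine ⟨b, hb, ?_, hsp'⟩
    have h := hh.herm b b
    rw [hσ, sq] at h
    exact mul_left_cancel₀ hne (h.symm.trans (mul_one _).symm)
  choose b hb hbb hspan using hex
  have horth : ∀ i j, f (b i) (b j) = if i = j then 1 else 0 := by
    intro i j
    split_ifs with h
    · subst h; exact hbb i
    · exact hD.orthogonal i j h (b i) (hb i) (b j) (hb j)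
  have hb0 : ∀ i, b i ≠ 0 := fun i h => one_ne_zero (α := F) (by rw [← hbb i, h, hh.zero_left])
  have hli : LinearIndependent F b := hD.decomp.indep.linearIndependent _ hb hb0
  let B := basisOfLinearIndependentOfCardEqFinrank' b hli (by simp)
  have hB : ∀ i, B i = b i := fun i => by simp [B]
  let X : (Fin 6 → F) → Fin 6 → F := fun v i => f v (b i)
  have hX : ∀ v i, X v i = B.repr v i := by
    intro v i
    conv_lhs => rw [← B.sum_repr v]
    show f (∑ j, B.repr v j • B j) (b i) = _
    rw [hh.sum_left, Finset.sum_eq_single i]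
    · rw [hh.smul_left, hB, horth, if_pos rfl, mul_one]
    · intro j _ hj
      rw [hh.smul_left, hB, horth, if_neg hj, mul_zero]
    · simp
  -- the stabiliser of the family
  let M : Subgroup (GL (Fin 6) F) :=
    { carrier := {g | ∀ v, Good (X v) ↔ Good (X ((g : Matrix (Fin 6) (Fin 6) F) *ᵥ v))}
      one_mem' := fun v => by rw [Units.val_one, Matrix.one_mulVec]
      mul_mem' := fun {g h} hg hh' v => by rw [Units.val_mul, ← Matrix.mulVec_mulVec]; exact (hh' v).trans (hg _)
      inv_mem' := fun {g} hg v => by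
        have := hg (((g⁻¹ : GL (Fin 6) F) : Matrix (Fin 6) (Fin 6) F) *ᵥ v)
        rw [Matrix.mulVec_mulVec, ← Units.val_mul, mul_inv_cancel, Units.val_one, Matrix.one_mulVec] at this
        exact this.symm }
  have hHM : H ≤ M := by
    intro g hg v
    obtain ⟨σ, hσD⟩ := hle hg
    have hgU := hH.1.le hg
    have hmon : ∀ i, ∃ d : F, (g : Matrix (Fin 6) (Fin 6) F) *ᵥ b i = d • b (σ i) := fun i =>
      hspan (σ i) _ ((hσD i).le ⟨b i, hb i, Matrix.toLin'_apply _ _⟩)
    choose d hd using hmon
    have hd3 : ∀ i, d i * d i ^ 2 = 1 := fun i => by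
      have h : f ((g : Matrix (Fin 6) (Fin 6) F) *ᵥ b i) ((g : Matrix (Fin 6) (Fin 6) F) *ᵥ b i) = f (b i) (b i) :=
        hgU.1 (b i) (b i)
      rw [hd, hh.smul_left, hh.smul_right, hbb, hbb, mul_one, hσ] at h
      exact h
    have hXg : ∀ i, X ((g : Matrix (Fin 6) (Fin 6) F) *ᵥ v) (σ i) = d i * X v i := by
      intro i
      have h : f ((g : Matrix (Fin 6) (Fin 6) F) *ᵥ v) ((g : Matrix (Fin 6) (Fin 6) F) *ᵥ b i) = f v (b i) :=
        hgU.1 v (b i)
      rw [hd, hh.smul_right, hσ] at h
      show f _ _ = _ * f _ _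
      rw [← h, ← mul_assoc, hd3, one_mul]
    have hd0 : ∀ i, d i ≠ 0 := fun i h => by simpa [h] using hd3 i
    have hdprod : ∏ i, d i = 1 := by
      let L := Matrix.toLin' (g : Matrix (Fin 6) (Fin 6) F)
      have hdet : (LinearMap.toMatrix B B L).det = 1 := by
        rw [LinearMap.det_toMatrix, LinearMap.det_toLin']
        have h1 : Matrix.GeneralLinearGroup.det g = 1 := (Subgroup.mem_inf.mp hgU).2
        have h1' := congrArg (fun z : Fˣ => (z : F)) h1
        rw [← Matrix.GeneralLinearGroup.val_det_apply]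
        exact h1'
      have hsub : (LinearMap.toMatrix B B L).submatrix σ id = Matrix.diagonal d := by
        ext i j
        rw [Matrix.submatrix_apply, id, LinearMap.toMatrix_apply, Matrix.toLin'_apply, hB, hd, ← hB, map_smul,
          Module.Basis.repr_self]
        by_cases h : i = j
        · subst h; simp
        · simp [Matrix.diagonal_apply_ne _ h, σ.injective.ne_iff.2 h, Finsupp.single_apply, Ne.symm h]
      have := congrArg Matrix.det hsub
      rw [Matrix.det_permute, hdet, Matrix.det_diagonal, mul_one] at this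
      rw [← this]
      rcases Int.units_eq_one_or (Equiv.Perm.sign σ) with h | h <;> rw [h]
      · simp
      · push_cast
        linear_combination -h2
    set Y := X ((g : Matrix (Fin 6) (Fin 6) F) *ᵥ v)
    have hne : ∀ i, Y (σ i) ≠ 0 ↔ X v i ≠ 0 := fun i => by rw [hXg, mul_ne_zero_iff]; simp [hd0]
    have hcard : Nat.card {i // Y i ≠ 0} = Nat.card {i // X v i ≠ 0} :=
      (Nat.card_congr (Equiv.subtypeEquiv σ fun i => (hne i).symm)).symm
    have hall : (∀ i, Y i ≠ 0) ↔ ∀ i, X v i ≠ 0 :=
      ⟨fun h i => (hne i).1 (h _), fun h i => by simpa using (hne (σ.symm i)).2 (h _)⟩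
    have hprod : ∏ i, Y i = ∏ i, X v i := by
      rw [← Equiv.prod_comp σ Y]
      simp only [hXg, Finset.prod_mul_distrib, hdprod, one_mul]
    show Good (X v) ↔ Good Y
    unfold Good
    rw [hcard, hall, hprod]
  -- transvections
  have htv : ∀ u, f u u = 0 → ∃ T : GL (Fin 6) F, T ∈ omegaU 6 F 2 ∧
      ∀ y i, X ((T : Matrix (Fin 6) (Fin 6) F) *ᵥ y) i = X y i + f y u * X u i := by
    intro u hu
    obtain ⟨T, hT⟩ := exists_tv hF u (by rw [hermBilin_apply]; exact hu) 1 (by rw [map_one]; linear_combination h2)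
    refine ⟨_, toGU_mem T, fun y i => ?_⟩
    rw [toGU_mulVec, hT, one_mul, hermBilin_apply]
    show f _ _ = f _ _ + _ * f _ _
    rw [hh.add_left, hh.smul_left]
  let sumb : Finset (Fin 6) → Fin 6 → F := fun s => ∑ i ∈ s, b i
  have hXs : ∀ s i, X (sumb s) i = if i ∈ s then 1 else 0 := by
    intro s i
    show f (∑ j ∈ s, b j) (b i) = _
    rw [hh.sum_left]
    simp only [horth, Finset.sum_ite_eq']
  have hfs : ∀ y s, f y (sumb s) = ∑ i ∈ s, X y i := fun y s => hh.sum_right _ _ _
  -- the first transvection fixes the family but permutes no lines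
  have hu1 : f (sumb Finset.univ) (sumb Finset.univ) = 0 := by
    rw [hfs]
    simp only [hXs, Finset.mem_univ, if_true, Finset.sum_const, Finset.card_univ, Fintype.card_fin, nsmul_eq_mul]
    push_cast
    linear_combination 3 * h2
  obtain ⟨T, hTU, hT⟩ := htv _ hu1
  have hTM : T ∈ M := by
    intro v
    have hone : ∀ v, Good (X v) → Good (X ((T : Matrix (Fin 6) (Fin 6) F) *ᵥ v)) := fun v h => by
      convert good_move hF _ h using 1
      funext i
      rw [hT, hfs, hXs, if_pos (Finset.mem_univ i), mul_one]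
    refine ⟨hone v, fun h => ?_⟩
    have h' := hone _ h
    have e : X ((T : Matrix (Fin 6) (Fin 6) F) *ᵥ ((T : Matrix (Fin 6) (Fin 6) F) *ᵥ v)) = X v := by
      funext i
      rw [hT, hT, hfs, hfs]
      simp only [hT, hfs, hXs, Finset.mem_univ, if_true, Fin.sum_univ_six, mul_one]
      linear_combination (4 * (X v 0 + X v 1 + X v 2 + X v 3 + X v 4 + X v 5)) * h2
    rwa [e] at h'
  rcases hH.2 (M ⊓ omegaU 6 F 2) (le_inf hHM hH.1.le) inf_le_right with h | h
  · -- `T` would permute the lines
    obtain ⟨σ, hσD⟩ := hle (h.le ⟨hTM, hTU⟩)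
    obtain ⟨c, hc⟩ : ∃ c : F, (T : Matrix (Fin 6) (Fin 6) F) *ᵥ b 0 = c • b (σ 0) :=
      hspan (σ 0) _ ((hσD 0).le ⟨b 0, hb 0, Matrix.toLin'_apply _ _⟩)
    obtain ⟨j, hj0, hjσ⟩ : ∃ j : Fin 6, j ≠ 0 ∧ j ≠ σ 0 := by
      have : ∀ k : Fin 6, ∃ j : Fin 6, j ≠ 0 ∧ j ≠ k := by decide
      exact this _
    have e := hT (b 0) j
    rw [hc, hfs, hXs, if_pos (Finset.mem_univ j), mul_one] at e
    simp only [X, hh.smul_left, horth, Fin.sum_univ_six] at e
    rw [if_neg (Ne.symm hjσ), if_neg (Ne.symm hj0), mul_zero] at e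
    simp at e
  · -- a second transvection moves the family
    have hu2 : f (sumb {0, 1, 2, 3}) (sumb {0, 1, 2, 3}) = 0 := by
      rw [hfs, Finset.sum_congr rfl (fun i hi => (hXs _ i).trans (if_pos hi)), Finset.sum_const,
        show ({0, 1, 2, 3} : Finset (Fin 6)).card = 4 from by decide, nsmul_eq_mul]
      push_cast
      linear_combination 2 * h2
    obtain ⟨S, hSU, hS⟩ := htv _ hu2
    have hSM : S ∈ M := (h.ge hSU).1
    have hg1 : Good (X (sumb {3, 4})) := by
      left
      rw [Nat.card_eq_fintype_card, Fintype.card_subtype]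
      simp only [hXs, ne_eq, ite_eq_right_iff, one_ne_zero, imp_false, not_not]
      decide
    have hg2 := (hSM _).1 hg1
    have hinner : f (sumb {3, 4}) (sumb {0, 1, 2, 3}) = 1 := by
      rw [hfs, Finset.sum_congr rfl (fun i _ => hXs {3, 4} i), ← Finset.sum_filter,
        show (({0, 1, 2, 3} : Finset (Fin 6)).filter fun i => i ∈ ({3, 4} : Finset (Fin 6))) = {3} from by decide,
        Finset.sum_singleton]
    have hval : X ((S : Matrix (Fin 6) (Fin 6) F) *ᵥ sumb {3, 4}) = fun i => if i ∈ ({0, 1, 2, 4} : Finset (Fin 6)) then 1 else 0 := by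
      funext i
      rw [hS, hinner, hXs, hXs, one_mul]
      fin_cases i <;> simp <;> linear_combination h2
    rw [hval] at hg2
    rcases hg2 with hg2 | ⟨hg2, -⟩
    · rw [Nat.card_eq_fintype_card, Fintype.card_subtype] at hg2
      simp only [ne_eq, ite_eq_right_iff, one_ne_zero, imp_false, not_not] at hg2
      exact absurd hg2 (by decide)
    · simpa using hg2 3

end Cfsg.Agent.Lib.UnitSix
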