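import Cfsg.Agent.Lib.UnitMax.Geom
import Cfsg.Agent.Lib.UnitTwoPrime.Tensor
import Cfsg.Agent.Lib.UnitSix.LinesTwo
import Cfsg.Agent.Lib.MaxSub.Subfield

/-!
Over the field with four elements the normaliser of an adjoint-closed cubic field in `SU_6(2)` fixes a
symplectic-type structure over the prime field.
-/

set_option autoImplicit false
set_option linter.unusedSectionVars false
set_option maxHeartbeats 1000000

namespace Cfsg.Agent.Lib.UnitSix

open scoped Matrix MatrixGroups
open Module
open Cfsg.Agent.Lib.UnitPrimeDim (omegaU)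
open Cfsg.Agent.Lib.Classical (conjHom conjHom_apply conjHom_conjHom)

/-- A linear bijection commuting with a conjugate-linear map that fixes a basis has determinant one over four
elements. -/
theorem det_eq_one_of_fixed {F W ι : Type*} [Field F] [AddCommGroup W] [Module F W] [Fintype ι] [DecidableEq ι]
    (h01 : ∀ x : F, x ^ 2 = x → x = 0 ∨ x = 1) (σ : F →+* F) (hσ : ∀ x, σ x = x ^ 2)
    (e : Basis ι F W) (T : W →+ W) (hT : ∀ (c : F) x, T (c • x) = σ c • T x) (hTe : ∀ i, T (e i) = e i)
    (L : W →ₗ[F] W) (hL : ∀ x, L (T x) = T (L x)) (hinj : Function.Injective L) : LinearMap.det L = 1 := by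
  have hrepr : ∀ y i, T y = y → σ (e.repr y i) = e.repr y i := by
    intro y i hy
    have h1 : T y = ∑ j, σ (e.repr y j) • e j := by
      conv_lhs => rw [← e.sum_repr y]
      rw [map_sum]
      exact Finset.sum_congr rfl fun j _ => by rw [hT, hTe]
    rw [hy] at h1
    have h2 := congrArg (fun z => e.repr z i) h1
    simpa [Finsupp.single_apply] using h2.symm
  have hM : σ.mapMatrix (LinearMap.toMatrix e e L) = LinearMap.toMatrix e e L := by
    ext i j
    simp only [RingHom.mapMatrix_apply, Matrix.map_apply, LinearMap.toMatrix_apply]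
    exact hrepr _ i (by rw [← hL, hTe])
  haveI := Module.Finite.of_basis e
  have h := congrArg Matrix.det hM
  rw [← RingHom.map_det, LinearMap.det_toMatrix, hσ] at h
  refine (h01 _ h).resolve_left fun h0 => ?_
  have hu : IsUnit L := (Module.End.isUnit_iff _).2
    ⟨hinj, LinearMap.injective_iff_surjective.1 hinj⟩
  exact (hu.map LinearMap.det).ne_zero h0

variable {F : Type*} [Field F] [Fintype F]

theorem field_two (hF : Fintype.card F = 2 ^ 2) {K : Subalgebra F (Matrix (Fin 6) (Fin 6) F)}
    (hK : Cfsg.Geo.IsFieldSubalgebra 3 K) (hadj : Cfsg.Geo.IsAdjointClosedFor (Cfsg.hermForm 6 F 2) K) :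
    ∃ (F₀ : Subfield F) (P : GL (Fin 6) F), Fintype.card F = Nat.card F₀ ^ 2 ∧
      Cfsg.Geo.IsFormRationalStructure (Cfsg.hermForm 6 F 2) F₀ 1 P ∧
      (∀ u : Fin 6 → F, (∀ i, u i ∈ F₀) → Cfsg.hermForm 6 F 2 ((P : Matrix (Fin 6) (Fin 6) F) *ᵥ u)
        ((P : Matrix (Fin 6) (Fin 6) F) *ᵥ u) = 0) ∧
      Cfsg.Geo.subalgebraNormalizer K ⊓ omegaU 6 F 2 ≤ Cfsg.Geo.subfieldSubgroup F₀ P := by
  classical
  have h2 := two_zero hF
  have h4 : ∀ x : F, x ^ 4 = x := fun x => by
    have := FiniteField.pow_card x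
    rw [hF] at this
    simpa using this
  have h01 : ∀ x : F, x ^ 2 = x → x = 0 ∨ x = 1 := fun x hx => by
    have : x * (x - 1) = 0 := by linear_combination hx
    exact (mul_eq_zero.1 this).imp id sub_eq_zero.1
  obtain ⟨w, hw⟩ : ∃ w : F, w ^ 2 ≠ w := by
    by_contra hc
    push Not at hc
    have : Fintype.card F ≤ ({0, 1} : Finset F).card := Finset.card_le_card fun x _ => by
      rcases h01 x (hc x) with h | h <;> simp [h]
    have := Finset.card_le_two (a := (0 : F)) (b := 1)
    omega
  have hw2 : w ^ 2 = w + 1 := by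
    have h0 : w * ((w - 1) * (w ^ 2 + w + 1)) = 0 := by linear_combination h4 w
    rcases mul_eq_zero.1 h0 with h | h
    · exact absurd (by rw [h]; ring) hw
    rcases mul_eq_zero.1 h with h | h
    · exact absurd (by rw [sub_eq_zero.1 h]; ring) hw
    · linear_combination h - (w + 1) * h2
  set σ : F →+* F := conjHom hF with hσdef
  have hσ : ∀ x, σ x = x ^ 2 := conjHom_apply hF
  let F₀ : Subfield F := RingHom.eqLocusField σ (RingHom.id F)
  have hmem : ∀ x, x ∈ F₀ ↔ x ^ 2 = x := fun x => by rw [← hσ]; exact Iff.rfl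
  have hF₀ : Nat.card F₀ = 2 := by
    rw [Nat.card_eq_two_iff]
    refine ⟨0, 1, zero_ne_one, Set.eq_univ_of_forall fun x => ?_⟩
    rcases h01 x ((hmem x).1 x.2) with h | h
    · exact Or.inl (Subtype.ext h)
    · exact Or.inr (Subtype.ext h)
  set f := Cfsg.hermForm 6 F 2
  have hh : UnitTwoPrime.Herm (Geometry.frobQ hF) f := UnitTwoPrime.herm_hermForm hF
  have hσ' : ∀ x, Geometry.frobQ hF x = x ^ 2 := Geometry.frobQ_apply hF
  -- the field and its involution
  haveI : Nontrivial K := ⟨⟨0, 1, fun e => zero_ne_one (α := Matrix (Fin 6) (Fin 6) F) (congrArg Subtype.val e)⟩⟩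
  have hfield : IsField K := by
    refine ⟨exists_pair_ne K, fun a b => Subtype.ext (hK.comm a a.2 b b.2), fun {a} ha => ?_⟩
    obtain ⟨y, hy, hay⟩ := hK.inv a a.2 fun h => ha (Subtype.ext h)
    exact ⟨⟨y, hy⟩, Subtype.ext hay⟩
  letI : Field K := hfield.toField
  have hadjK : ∀ k ∈ K, UnitMax.adj hF k ∈ K := by
    intro k hk
    obtain ⟨k', hk', hkk⟩ := hadj k hk
    suffices UnitMax.adj hF k = k' by rw [this]; exact hk'
    refine Matrix.ext_iff_mulVec.2 fun v => sub_eq_zero.1 (UnitPrimeDim.herm_nondeg hF fun x => ?_)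
    have e := (UnitMax.adj_spec hF k x v).symm.trans (hkk x v)
    show f x _ = 0
    rw [sub_eq_add_neg, ← neg_one_smul F (k' *ᵥ v), hh.add_right, hh.smul_right, show f x (UnitMax.adj hF k *ᵥ v) = f x (k' *ᵥ v) from e, map_neg, map_one]
    ring
  let τ : K →+* K :=
    { toFun := fun x => ⟨UnitMax.adj hF x, hadjK _ x.2⟩
      map_one' := Subtype.ext (by simp [UnitMax.adj])
      map_mul' := fun x y => Subtype.ext (by
        show UnitMax.adj hF ((x : Matrix (Fin 6) (Fin 6) F) * (y : Matrix (Fin 6) (Fin 6) F)) = _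
        rw [UnitMax.adj_mul]
        exact hK.comm _ (hadjK _ y.2) _ (hadjK _ x.2))
      map_zero' := Subtype.ext (by simp [UnitMax.adj])
      map_add' := fun x y => Subtype.ext (by ext i j; simp [UnitMax.adj]) }
  have hττ : ∀ x, τ (τ x) = x := fun x => Subtype.ext (UnitMax.adj_adj hF _)
  have hτs : ∀ (a : F) (x : K), τ (a • x) = σ a • τ x := fun a x => Subtype.ext (by
    show UnitMax.adj hF (a • (x : Matrix (Fin 6) (Fin 6) F)) = σ a • UnitMax.adj hF (x : Matrix (Fin 6) (Fin 6) F)
    ext i j; simp [UnitMax.adj, hσdef])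
  have hK2 : (2 : K) = 0 := by
    rw [← map_ofNat (algebraMap F K) 2, h2, map_zero]
  let B : K → K := fun x => x + τ x
  have hB : ∀ x, τ (B x) = B x := fun x => by simp only [B, map_add, hττ, add_comm]
  have hdec : ∀ x : K, x = (x + w • B x) + w • B x := fun x => by
    rw [add_assoc, ← two_mul, hK2, zero_mul, add_zero]
  have hA : ∀ x, τ (x + w • B x) = x + w • B x := fun x => by
    rw [map_add, hτs, hB, hσ, hw2, add_smul, one_smul]
    simp only [B]
    linear_combination (norm := ring_nf) (τ x) * hK2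
  have hspan : Submodule.span F {x : K | τ x = x} = ⊤ := by
    rw [eq_top_iff]
    rintro x -
    rw [hdec x]
    exact add_mem (Submodule.subset_span (hA x)) (Submodule.smul_mem _ _ (Submodule.subset_span (hB x)))
  obtain ⟨bs, hbS, hbspan, hbli⟩ := exists_linearIndependent F {x : K | τ x = x}
  let bb : Basis bs F K := Basis.mk hbli (by rw [Subtype.range_coe, hbspan, hspan])
  haveI : Fintype bs := Fintype.ofFinite bs
  have hbs : Fintype.card bs = 3 := by
    rw [← Module.finrank_eq_card_basis bb]; exact hK.finrank_eq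
  let e : Basis (Fin 3) F K := bb.reindex ((Fintype.equivFin bs).trans (finCongr hbs))
  have he : ∀ i, τ (e i) = e i := fun i => by
    show τ (bb.reindex _ i) = bb.reindex _ i
    rw [Basis.reindex_apply, Basis.mk_apply]
    exact hbS (Subtype.coe_prop _)
  have hKc : Nat.card K = 64 := by
    rw [Module.natCard_eq_pow_finrank (K := F), Nat.card_eq_fintype_card, hF]
    show (2 ^ 2) ^ finrank F K = 64
    rw [hK.finrank_eq]; norm_num
  haveI : Finite K := Nat.finite_of_card_ne_zero (by omega)
  have h64 : ∀ x : K, x ^ 64 = x := fun x => by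
    haveI : Fintype K := Fintype.ofFinite K
    rw [← hKc, Nat.card_eq_fintype_card]; exact FiniteField.pow_card x
  -- fixed elements
  let K0 : Subfield K := RingHom.eqLocusField τ (RingHom.id K)
  have hK0 : Nat.card K0 = 8 := by
    let E : K0 × K0 ≃ K :=
      { toFun := fun p => (p.1 : K) + w • (p.2 : K)
        invFun := fun x => (⟨x + w • B x, hA x⟩, ⟨B x, hB x⟩)
        left_inv := fun p => by
          have h1 : τ (p.1 : K) = p.1 := p.1.2
          have h2' : τ (p.2 : K) = p.2 := p.2.2
          have hb : B ((p.1 : K) + w • (p.2 : K)) = p.2 := by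
            simp only [B, map_add, hτs, h1, h2', hσ, hw2, add_smul, one_smul]
            linear_combination (norm := ring_nf) ((p.1 : K) + w • (p.2 : K)) * hK2
          refine Prod.ext (Subtype.ext ?_) (Subtype.ext hb)
          show (p.1 : K) + w • (p.2 : K) + w • B _ = p.1
          rw [hb, add_assoc, ← two_mul, hK2, zero_mul, add_zero]
        right_inv := fun x => (hdec x).symm }
    have := Nat.card_congr E
    rw [Nat.card_prod, hKc] at this
    exact Nat.mul_self_inj.1 (this.trans (by norm_num))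
  have hroot : ∀ x : K, x ^ 8 = x → τ x = x := by
    intro x hx
    haveI : Fintype K := Fintype.ofFinite K
    haveI : Fintype K0 := Fintype.ofFinite K0
    by_contra hnot
    let p : Polynomial K := Polynomial.X ^ 8 - Polynomial.X
    have hp : p ≠ 0 := FiniteField.X_pow_card_sub_X_ne_zero K (by norm_num)
    have hsub : insert x (Finset.univ.image fun y : K0 => (y : K)) ⊆ p.roots.toFinset := by
      intro y hy
      rw [Multiset.mem_toFinset, Polynomial.mem_roots hp]
      rcases Finset.mem_insert.mp hy with rfl | hy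
      · simp [p, hx]
      · obtain ⟨z, -, rfl⟩ := Finset.mem_image.mp hy
        have hz : z ^ 8 = z := by rw [← hK0, Nat.card_eq_fintype_card]; exact FiniteField.pow_card z
        have hz' := congrArg (fun w : K0 => (w : K)) hz
        simp only [SubmonoidClass.coe_pow] at hz'
        simp [p, hz']
    have h' := (Finset.card_le_card hsub).trans ((Multiset.toFinset_card_le _).trans (Polynomial.card_roots' p))
    rw [FiniteField.X_pow_card_sub_X_natDegree_eq K (by norm_num), Finset.card_insert_of_notMem (by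
      simp only [Finset.mem_image, Finset.mem_univ, true_and, not_exists]
      exact fun z hz => hnot (hz ▸ z.2)), Finset.card_image_of_injective _ Subtype.val_injective,
      Finset.card_univ, ← Nat.card_eq_fintype_card, hK0] at h'
    omega
  -- two twin vectors
  let act : K → (Fin 6 → F) → (Fin 6 → F) := fun k v => (k : Matrix (Fin 6) (Fin 6) F) *ᵥ v
  have act_add : ∀ k l v, act (k + l) v = act k v + act l v := fun k l v => Matrix.add_mulVec _ _ v
  have act_smul : ∀ (c : F) k v, act (c • k) v = c • act k v := fun c k v => Matrix.smul_mulVec c _ v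
  have act_mul : ∀ k l v, act (k * l) v = act k (act l v) := fun k l v => (Matrix.mulVec_mulVec v _ _).symm
  have act_one : ∀ v, act 1 v = v := fun v => Matrix.one_mulVec v
  have act_zero : ∀ v, act 0 v = 0 := fun v => Matrix.zero_mulVec v
  have act_inj : ∀ k : K, k ≠ 0 → ∀ v, act k v = 0 → v = 0 := fun k hk v hv => by
    rw [← act_one v, ← inv_mul_cancel₀ hk, act_mul, hv]; exact Matrix.mulVec_zero _
  have hadjf : ∀ k u v, f (act k u) v = f u (act (τ k) v) := fun k u v => UnitMax.adj_spec hF _ u v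
  let lam : (Fin 6 → F) → K → F := fun u k => f (act k u) u
  have lam_add : ∀ u k l, lam u (k + l) = lam u k + lam u l := fun u k l => by
    simp only [lam, act_add, hh.add_left]
  have lam_smul : ∀ u (c : F) k, lam u (c • k) = c * lam u k := fun u c k => by
    simp only [lam, act_smul, hh.smul_left]
  have lam_tau : ∀ u k, lam u (τ k) = (lam u k) ^ 2 := fun u k => by
    simp only [lam]
    rw [hadjf, hττ, hh.herm, hσ']
  obtain ⟨u1, hu1⟩ : ∃ u, f u u ≠ 0 := by
    obtain ⟨t, ht⟩ := Geometry.exists_pow_ne_self hF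
    obtain ⟨x, -, hx⟩ := UnitTwoPrime.exists_anisotropic (σ := Geometry.frobQ hF) ⟨t, by rwa [hσ']⟩ hh
      (W := (⊤ : Submodule F (Fin 6 → F))) (fun v _ hv => by
        obtain ⟨⟨x, hx⟩, y, hy⟩ := hh.nondegenerate v hv
        exact ⟨⟨x, trivial, hx⟩, y, trivial, hy⟩) top_ne_bot
    exact ⟨x, hx⟩
  have hl1 : ∀ k, (∀ l, lam u1 (l * k) = 0) → k = 0 := by
    intro k hk
    by_contra hk0
    have := hk k⁻¹
    rw [inv_mul_cancel₀ hk0] at this
    exact hu1 (by rwa [show lam u1 1 = f u1 u1 by simp only [lam, act_one]] at this)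
  let L1 : (Fin 6 → F) →ₗ[F] (Fin 3 → F) :=
    { toFun := fun v i => f v (act (e i) u1)
      map_add' := fun x y => funext fun i => hh.add_left _ _ _
      map_smul' := fun c x => funext fun i => hh.smul_left _ _ _ }
  have hL1 : ∀ v, L1 v = 0 → ∀ k, f v (act k u1) = 0 := by
    intro v hv k
    rw [← e.sum_repr k]
    have h1 : act (∑ i, e.repr k i • e i) u1 = ∑ i, e.repr k i • act (e i) u1 := by
      simp only [act]
      rw [AddSubmonoidClass.coe_finsetSum, Matrix.sum_mulVec]
      exact Finset.sum_congr rfl fun i _ => act_smul _ _ _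
    rw [h1, hh.sum_right]
    refine Finset.sum_eq_zero fun i _ => ?_
    rw [hh.smul_right, show f v (act (e i) u1) = 0 from congrFun hv i, mul_zero]
  obtain ⟨v2, hv2, hv20⟩ : ∃ v ∈ LinearMap.ker L1, v ≠ 0 := by
    refine (Submodule.ne_bot_iff _).1 fun h => ?_
    have := LinearMap.finrank_le_finrank_of_injective (LinearMap.ker_eq_bot.1 h)
    simp at this
  have hperp : ∀ k l, f (act k v2) (act l u1) = 0 := fun k l => by
    rw [hadjf, ← act_mul]; exact hL1 _ hv2 _
  let Lr : K →ₗ[F] (Fin 6 → F) :=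
    { toFun := fun k => act k u1, map_add' := fun k l => act_add k l u1, map_smul' := fun c k => act_smul c k u1 }
  let Lr2 : K →ₗ[F] (Fin 6 → F) :=
    { toFun := fun k => act k v2, map_add' := fun k l => act_add k l v2, map_smul' := fun c k => act_smul c k v2 }
  have hu10 : u1 ≠ 0 := fun h => hu1 (by rw [h, hh.zero_left])
  have hLi : Function.Injective (Lr.coprod Lr2) := by
    refine (injective_iff_map_eq_zero _).2 fun p hp => ?_
    have h0 : act p.1 u1 + act p.2 v2 = 0 := hp
    have h1 : p.1 = 0 := hl1 _ fun l => by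
      have := congrArg (fun z => f z (act (τ l) u1)) h0
      rw [hh.add_left, hperp, add_zero, hh.zero_left, hadjf, ← act_mul] at this
      show f (act (l * p.1) u1) u1 = 0
      rwa [hadjf, map_mul, mul_comm]
    rw [h1, act_zero, zero_add] at h0
    refine Prod.ext h1 ?_
    by_contra h2'
    exact hv20 (act_inj _ h2' v2 h0)
  have hfr : finrank F (K × K) = finrank F (Fin 6 → F) := by
    rw [Module.finrank_prod, Module.finrank_fin_fun, show finrank F K = 3 from hK.finrank_eq]
  have hLs : Function.Surjective (Lr.coprod Lr2) :=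
    (LinearMap.injective_iff_surjective_of_finrank_eq_finrank hfr).1 hLi
  -- rescale the second vector
  let T2 : K →ₗ[F] (Fin 3 → F) :=
    { toFun := fun c i => lam u1 (e i * c)
      map_add' := fun x y => funext fun i => by rw [Pi.add_apply, mul_add, lam_add]
      map_smul' := fun c x => funext fun i => by rw [Pi.smul_apply, mul_smul_comm, lam_smul]; rfl }
  have hext : ∀ c c' : K, (∀ i, lam u1 (e i * c) = lam u1 (e i * c')) → c = c' := by
    intro c c' h
    refine sub_eq_zero.1 (hl1 _ fun l => ?_)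
    let φ : K →ₗ[F] F :=
      { toFun := fun k => lam u1 (k * (c - c'))
        map_add' := fun x y => by rw [add_mul, lam_add]
        map_smul' := fun a x => by rw [smul_mul_assoc, lam_smul]; rfl }
    have : φ = 0 := e.ext fun i => by
      show lam u1 (e i * (c - c')) = 0
      rw [mul_sub, sub_eq_add_neg, ← neg_one_smul F, lam_add, lam_smul, h i]; ring
    exact LinearMap.congr_fun this l
  obtain ⟨c, hc⟩ : ∃ c : K, ∀ i, lam v2 (e i) = lam u1 (e i * c) := by
    have hi : Function.Injective T2 := fun c c' h => hext c c' fun i => congrFun h i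
    obtain ⟨c, hc⟩ := (LinearMap.injective_iff_surjective_of_finrank_eq_finrank
      (by rw [show finrank F K = 3 from hK.finrank_eq, Module.finrank_fin_fun])).1 hi fun i => lam v2 (e i)
    exact ⟨c, fun i => (congrFun hc i).symm⟩
  have hτc : τ c = c := hext _ _ fun i => by
    rw [← he i, ← map_mul, lam_tau, ← hc, ← lam_tau, he]; exact hc i
  have hc' : ∀ k, lam v2 k = lam u1 (k * c) := by
    intro k
    let φ : K →ₗ[F] F :=
      { toFun := fun k => lam v2 k - lam u1 (k * c)
        map_add' := fun x y => by rw [add_mul, lam_add, lam_add]; ring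
        map_smul' := fun a x => by rw [smul_mul_assoc, lam_smul, lam_smul, RingHom.id_apply, smul_eq_mul]; ring }
    have : φ = 0 := e.ext fun i => by
      show lam v2 (e i) - lam u1 (e i * c) = 0
      rw [hc, sub_self]
    exact sub_eq_zero.1 (LinearMap.congr_fun this k)
  have hc0 : c ≠ 0 := by
    intro h0
    obtain ⟨⟨x, hx⟩, -⟩ := hh.nondegenerate v2 hv20
    obtain ⟨⟨k, l⟩, rfl⟩ := hLs x
    refine hx ?_
    show f (act k u1 + act l v2) v2 = 0
    rw [hh.add_left, show f (act l v2) v2 = lam v2 l from rfl, hc', h0, mul_zero,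
      show lam u1 0 = f (act 0 u1) u1 from rfl, act_zero, hh.zero_left, add_zero, hadjf, hh.herm, ← act_one u1, hperp, map_zero]
  set d := c ^ 32 with hd
  have hdd : d * d = c := by rw [hd, ← pow_add]; exact h64 c
  have hτd : τ d = d := by rw [hd, map_pow, hτc]
  have hd0 : d ≠ 0 := pow_ne_zero _ hc0
  obtain ⟨u2, hu2def⟩ : ∃ u, u = act d⁻¹ v2 := ⟨_, rfl⟩
  have h22 : ∀ k, lam u2 k = lam u1 k := by
    intro k
    rw [hu2def]
    show f (act k (act d⁻¹ v2)) (act d⁻¹ v2) = _
    rw [← act_mul]
    have : act d⁻¹ v2 = act (τ d⁻¹) v2 := by rw [map_inv₀, hτd]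
    conv_lhs => arg 2; rw [this]
    rw [← hadjf, ← act_mul, show f (act (d⁻¹ * (k * d⁻¹)) v2) v2 = lam v2 _ from rfl, hc']
    congr 1
    field_simp
    linear_combination -k * hdd
  have h12 : ∀ k, f (act k u1) u2 = 0 := fun k => by
    rw [hu2def, hh.herm, hperp, map_zero]
  have h21 : ∀ k, f (act k u2) u1 = 0 := fun k => by
    rw [hu2def, ← act_mul, ← act_one u1]
    exact hperp _ _
  let U : Fin 2 → Fin 6 → F := ![u1, u2]
  let Φ₀ : (Fin 2 → K) →ₗ[F] (Fin 6 → F) :=
    { toFun := fun z => act (z 0) u1 + act (z 1) u2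
      map_add' := fun x y => by simp only [Pi.add_apply, act_add]; abel
      map_smul' := fun a x => by simp only [Pi.smul_apply, act_smul, smul_add, RingHom.id_apply] }
  have hform : ∀ x y x' y' : K, f (act x u1 + act y u2) (act x' u1 + act y' u2) =
      lam u1 (x * τ x' + y * τ y') := by
    intro x y x' y'
    have key : ∀ p q u v, f (act p u) (act q v) = f (act (p * τ q) u) v := fun p q u v => by
      rw [mul_comm, act_mul, hadjf (τ q), hττ]
    rw [hh.add_left, hh.add_right, hh.add_right, key, key, key, key, h12, h21, lam_add, ← h22 (y * τ y')]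
    simp only [lam]; ring
  have hΦi : Function.Injective Φ₀ := by
    refine (injective_iff_map_eq_zero _).2 fun z hz => ?_
    have h0 : act (z 0) u1 + act (z 1) u2 = 0 := hz
    funext i
    refine hl1 _ fun l => ?_
    fin_cases i
    · have := congrArg (fun v => f v (act (τ l) u1 + act 0 u2)) h0
      simp only [hform, hh.zero_left, map_zero, mul_zero, add_zero, hττ] at this
      simpa [mul_comm] using this
    · have := congrArg (fun v => f v (act 0 u1 + act (τ l) u2)) h0
      simp only [hform, hh.zero_left, map_zero, mul_zero, zero_add, hττ] at this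
      simpa [mul_comm] using this
  have hfr2 : finrank F (Fin 2 → K) = finrank F (Fin 6 → F) := by
    rw [Module.finrank_pi_fintype, Module.finrank_fin_fun]
    simp [show finrank F K = 3 from hK.finrank_eq]
  let Φ := LinearEquiv.ofBijective Φ₀ ⟨hΦi, (LinearMap.injective_iff_surjective_of_finrank_eq_finrank hfr2).1 hΦi⟩
  -- the structure
  let idx := (finProdFinEquiv : Fin 3 × Fin 2 ≃ Fin 6)
  let X : (Fin 6 → F) → F → K := fun u s => ∑ i, (u (idx (i, 0)) + s * u (idx (i, 1))) • e i
  have hXr : ∀ u s i, e.repr (X u s) i = u (idx (i, 0)) + s * u (idx (i, 1)) := fun u s i => by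
    exact congrFun (e.repr_sum_self fun i => u (idx (i, 0)) + s * u (idx (i, 1))) i
  let LP : (Fin 6 → F) →ₗ[F] (Fin 6 → F) :=
    { toFun := fun u => act (X u w) u1 + act (X u (w + 1)) u2
      map_add' := fun x y => by
        have : ∀ s, X (x + y) s = X x s + X y s := fun s => e.repr.injective (Finsupp.ext fun i => by
          rw [map_add, Finsupp.add_apply, hXr, hXr, hXr, Pi.add_apply, Pi.add_apply]; ring)
        rw [this, this, act_add, act_add]; abel
      map_smul' := fun a x => by
        have : ∀ s, X (a • x) s = a • X x s := fun s => e.repr.injective (Finsupp.ext fun i => by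
          rw [map_smul, Finsupp.smul_apply, hXr, hXr, Pi.smul_apply, Pi.smul_apply, smul_eq_mul, smul_eq_mul,
            smul_eq_mul]; ring)
        rw [this, this, act_smul, act_smul, RingHom.id_apply, smul_add] }
  have hLPi : Function.Injective LP := by
    refine (injective_iff_map_eq_zero _).2 fun u hu => ?_
    have hz : (![X u w, X u (w + 1)] : Fin 2 → K) = 0 := hΦi (hu.trans (map_zero Φ₀).symm)
    have ha : ∀ i, u (idx (i, 0)) + w * u (idx (i, 1)) = 0 := fun i => by
      rw [← hXr, show X u w = 0 from congrFun hz 0]; simp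
    have hb : ∀ i, u (idx (i, 0)) + (w + 1) * u (idx (i, 1)) = 0 := fun i => by
      rw [← hXr, show X u (w + 1) = 0 from congrFun hz 1]; simp
    funext j
    obtain ⟨⟨i, k⟩, rfl⟩ := idx.surjective j
    fin_cases k
    · show u (idx (i, 0)) = 0
      linear_combination (w + 1) * ha i - w * hb i
    · show u (idx (i, 1)) = 0
      linear_combination hb i - ha i
  let P : GL (Fin 6) F := Matrix.GeneralLinearGroup.mkOfDetNeZero (LinearMap.toMatrix' LP) (by
    rw [LinearMap.det_toMatrix']
    exact (((Module.End.isUnit_iff _).2 ⟨hLPi, LinearMap.injective_iff_surjective.1 hLPi⟩).map LinearMap.det).ne_zero)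
  have hP : ∀ u, (P : Matrix (Fin 6) (Fin 6) F) *ᵥ u = LP u := fun u => LinearMap.toMatrix'_mulVec LP u
  have hPX : ∀ u : Fin 6 → F, (∀ i, u i ∈ F₀) →
      (P : Matrix (Fin 6) (Fin 6) F) *ᵥ u = act (X u w) u1 + act (τ (X u w)) u2 := by
    intro u hu
    rw [hP]
    show _ + act (X u (w + 1)) u2 = _
    have : τ (X u w) = X u (w + 1) := by
      simp only [X, map_sum, hτs, he, hσ]
      refine Finset.sum_congr rfl fun i _ => ?_
      congr 1
      linear_combination (hmem _).1 (hu (idx (i, 0))) + w ^ 2 * (hmem _).1 (hu (idx (i, 1))) +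
        u (idx (i, 1)) * hw2 + u (idx (i, 0)) * w * u (idx (i, 1)) * h2
    rw [this]
  have hsurj : ∀ x : K, ∃ u : Fin 6 → F, (∀ i, u i ∈ F₀) ∧ X u w = x := by
    intro x
    let r1 : Fin 3 → F := fun i => e.repr x i + e.repr x i ^ 2
    let u : Fin 6 → F := fun j =>
      if (idx.symm j).2 = 0 then e.repr x (idx.symm j).1 + w * r1 (idx.symm j).1 else r1 (idx.symm j).1
    have hr : ∀ i, r1 i ^ 2 = r1 i := fun i => by
      simp only [r1]
      linear_combination h4 (e.repr x i) + e.repr x i * e.repr x i * e.repr x i * h2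
    refine ⟨u, fun j => (hmem _).2 ?_, e.repr.injective (Finsupp.ext fun i => ?_)⟩
    · simp only [u]
      split_ifs
      · have := hr (idx.symm j).1
        simp only [r1] at this ⊢
        linear_combination (w ^ 2) * this + (e.repr x (idx.symm j).1 + e.repr x (idx.symm j).1 ^ 2) * hw2 +
          (e.repr x (idx.symm j).1 * w * (e.repr x (idx.symm j).1 + e.repr x (idx.symm j).1 ^ 2) +
            e.repr x (idx.symm j).1 ^ 2) * h2
      · exact hr _
    · rw [hXr]
      simp only [u, Equiv.symm_apply_apply, if_true, show (1 : Fin 2) ≠ 0 by decide, if_false]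
      linear_combination (w * r1 i) * h2
  refine ⟨F₀, P, by rw [hF₀, hF], fun u v hu hv => ?_, fun u hu => ?_, fun g hg => ?_⟩
  · rw [one_mul, hPX u hu, hPX v hv, hform, hmem, ← lam_tau]
    simp only [map_add, map_mul, hττ]
    congr 1; ring
  · rw [hPX u hu, hform, hττ, mul_comm (τ _), ← two_mul, hK2, zero_mul]
    show f (act 0 u1) u1 = 0
    rw [act_zero, hh.zero_left]
  -- the normaliser
  obtain ⟨hgN, hgU⟩ := hg
  have hgU' : ∀ u v, f ((g : Matrix (Fin 6) (Fin 6) F) *ᵥ u) ((g : Matrix (Fin 6) (Fin 6) F) *ᵥ v) = f u v :=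
    fun u v => hgU.1 u v
  let θ : K →ₗ[F] K :=
    { toFun := fun k => ⟨(g : Matrix (Fin 6) (Fin 6) F) * k * ((g⁻¹ : GL (Fin 6) F) : Matrix (Fin 6) (Fin 6) F),
        (hgN k).1 k.2⟩
      map_add' := fun x y => Subtype.ext (by simp [mul_add, add_mul])
      map_smul' := fun a x => Subtype.ext (by simp [Matrix.mul_smul, Matrix.smul_mul]) }
  have hθg : ∀ k v, (g : Matrix (Fin 6) (Fin 6) F) *ᵥ act k v = act (θ k) ((g : Matrix (Fin 6) (Fin 6) F) *ᵥ v) :=
    fun k v => by
      simp [act, θ, Matrix.mulVec_mulVec, mul_assoc]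
  have hθinj : Function.Injective θ := fun x y h => Subtype.ext (by
    have := congrArg (fun z : K => ((g⁻¹ : GL (Fin 6) F) : Matrix (Fin 6) (Fin 6) F) * z * (g : Matrix (Fin 6) (Fin 6) F)) h
    simpa [θ, mul_assoc] using this)
  have hθτ : ∀ k, θ (τ k) = τ (θ k) := fun k => Subtype.ext (by
    show (g : Matrix (Fin 6) (Fin 6) F) * UnitMax.adj hF k * _ = UnitMax.adj hF (_ * _ * _)
    rw [UnitMax.adj_mul, UnitMax.adj_mul, UnitMax.adj_GU hF hgU.1, UnitMax.adj_GU hF (inv_mem hgU.1), inv_inv,
      ← mul_assoc])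
  obtain ⟨A, hA1⟩ := Φ.surjective ((g : Matrix (Fin 6) (Fin 6) F) *ᵥ u1)
  obtain ⟨A', hA2⟩ := Φ.surjective ((g : Matrix (Fin 6) (Fin 6) F) *ᵥ u2)
  set a := A 0
  set b := A 1
  set a' := A' 0
  set b' := A' 1
  have hA1' : (g : Matrix (Fin 6) (Fin 6) F) *ᵥ u1 = act a u1 + act b u2 := hA1.symm
  have hA2' : (g : Matrix (Fin 6) (Fin 6) F) *ᵥ u2 = act a' u1 + act b' u2 := hA2.symm
  have hg12 : ∀ x y, (g : Matrix (Fin 6) (Fin 6) F) *ᵥ (act x u1 + act y u2) =
      act (θ x * a + θ y * a') u1 + act (θ x * b + θ y * b') u2 := fun x y => by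
    rw [Matrix.mulVec_add, hθg, hθg, hA1', hA2']
    simp only [act, Matrix.mulVec_add, Matrix.mulVec_mulVec, Subalgebra.coe_add, Subalgebra.coe_mul,
      Matrix.add_mulVec]
    abel
  have hg : ∀ x y x' y' : K, lam u1 ((θ x * a + θ y * a') * τ (θ x' * a + θ y' * a') +
      (θ x * b + θ y * b') * τ (θ x' * b + θ y' * b')) = lam u1 (x * τ x' + y * τ y') := fun x y x' y' => by
    rw [← hform, ← hform, ← hg12, ← hg12, hgU']
  have hθsurj : Function.Surjective θ := LinearMap.injective_iff_surjective.1 hθinj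
  have hθ1 : θ 1 = 1 := Subtype.ext (by simp [θ])
  have hθ0 : θ 0 = 0 := map_zero θ
  have orth : a * τ a' + b * τ b' = 0 := hl1 _ fun l => by
    obtain ⟨x, rfl⟩ := hθsurj l
    have := hg x 0 0 1
    rw [hθ0, hθ1] at this
    simp only [map_zero, map_one, map_mul, map_add, zero_mul, mul_zero, add_zero, zero_add, one_mul, mul_one] at this
    rw [show lam u1 0 = f (act 0 u1) u1 from rfl, act_zero, hh.zero_left] at this
    rw [← this]
    congr 1; ring
  set ν := a * τ a + b * τ b with hνdef
  have hν' : a' * τ a' + b' * τ b' = ν := by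
    refine sub_eq_zero.1 (hl1 _ fun l => ?_)
    obtain ⟨x, rfl⟩ := hθsurj l
    have h1 := hg x 0 1 0
    have h2' := hg 0 x 0 1
    rw [hθ0, hθ1] at h1 h2'
    simp only [map_zero, map_one, map_mul, map_add, zero_mul, mul_zero, add_zero, zero_add, one_mul, mul_one] at h1 h2'
    rw [hνdef, mul_sub, sub_eq_add_neg, ← neg_one_smul F, lam_add, lam_smul]
    have e1 : θ x * (a' * τ a' + b' * τ b') = θ x * a' * τ a' + θ x * b' * τ b' := by ring
    have e2 : θ x * (a * τ a + b * τ b) = θ x * a * τ a + θ x * b * τ b := by ring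
    rw [e1, e2, h1, h2']; ring
  have hν0 : ν ≠ 0 := by
    intro h0
    have h1 := hg 1 0 1 0
    rw [hθ1, hθ0] at h1
    simp only [map_one, map_zero, one_mul, zero_mul, mul_zero, mul_one, add_zero] at h1
    rw [← hνdef, h0] at h1
    refine hu1 ?_
    rw [show lam u1 0 = f (act 0 u1) u1 from rfl, act_zero, hh.zero_left,
      show lam u1 1 = f (act 1 u1) u1 from rfl, act_one] at h1
    exact h1.symm
  have orth' : a' * τ a + b' * τ b = 0 := by
    have := congrArg τ orth
    simp only [map_add, map_mul, hττ, map_zero] at this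
    linear_combination this
  set δ := (a * b' + a' * b) / ν with hδdef
  have hδν : δ * ν = a * b' + a' * b := div_mul_cancel₀ _ hν0
  have hb'δ : b' = δ * τ a := mul_right_cancel₀ hν0 (by
    rw [hνdef] at hδν ⊢
    linear_combination -(τ a) * hδν + b * orth' - (a' * b * τ a) * hK2)
  have hbδ : b = δ * τ a' := mul_right_cancel₀ hν0 (by
    have h1 := hδν
    rw [← hν'] at h1 ⊢
    linear_combination -(τ a') * h1 + b' * orth - (a * b' * τ a') * hK2)
  have hδ1 : δ * τ δ = 1 := by
    have hτν : τ ν = ν := by rw [hνdef]; simp only [map_add, map_mul, hττ]; ring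
    have h1 : (δ * τ δ) * (ν * ν) = (a * b' + a' * b) * τ (a * b' + a' * b) := by
      rw [← hδν, map_mul, hτν]; ring
    have h3 : (a * b' + a' * b) * τ (a * b' + a' * b) = ν * ν := by
      conv_rhs => arg 2; rw [← hν']
      rw [hνdef]
      simp only [map_add, map_mul]
      linear_combination (a' * τ a + b' * τ b) * orth - (a * τ a * a' * τ a' + b * τ b * b' * τ b') * hK2
    exact mul_right_cancel₀ (mul_ne_zero hν0 hν0) (by rw [h1, h3, one_mul])
  -- the determinant
  let Mm : Matrix (Fin 2) (Fin 2) K := !![a, a'; b, b']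
  have hMdet : Mm.det = δ * ν := by
    rw [hδν, Matrix.det_fin_two_of]
    linear_combination (-(a' * b)) * hK2
  let Θ : (Fin 2 → K) →ₗ[F] (Fin 2 → K) := LinearMap.pi fun i => θ ∘ₗ LinearMap.proj i
  let TW : (Fin 2 → K) →+ (Fin 2 → K) :=
    { toFun := fun z i => τ (z i), map_zero' := funext fun i => map_zero τ, map_add' := fun x y => funext fun i => map_add τ _ _ }
  have hΘdet : LinearMap.det Θ = 1 := by
    refine det_eq_one_of_fixed h01 σ hσ (Pi.basis fun _ : Fin 2 => e) TW (fun c z => funext fun i => hτs c (z i))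
      (fun p => funext fun i => ?_) Θ (fun z => funext fun i => hθτ (z i)) fun x y h => funext fun i => hθinj (congrFun h i)
    show τ (Pi.basis (fun _ : Fin 2 => e) p i) = Pi.basis (fun _ : Fin 2 => e) p i
    rw [Pi.basis_apply]
    by_cases hi : i = p.1
    · subst hi; simp [he]
    · simp [Pi.single_eq_of_ne hi]
  have hnν : Algebra.norm F ν = 1 := by
    rw [Algebra.norm_apply]
    refine det_eq_one_of_fixed h01 σ hσ e τ.toAddMonoidHom hτs he _ (fun x => ?_) (mul_right_injective₀ hν0)
    show ν * τ x = τ (ν * x)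
    rw [map_mul, hνdef]
    simp only [map_add, map_mul, hττ]; ring
  have hdet : Algebra.norm F (δ * ν) = 1 := by
    have hLg : Matrix.toLin' (g : Matrix (Fin 6) (Fin 6) F) =
        Φ.toLinearMap ∘ₗ ((Matrix.toLin' Mm).restrictScalars F ∘ₗ Θ) ∘ₗ Φ.symm.toLinearMap := by
      refine LinearMap.ext fun v => ?_
      obtain ⟨z, rfl⟩ := Φ.surjective v
      simp only [LinearMap.comp_apply, LinearEquiv.coe_coe, LinearEquiv.symm_apply_apply, LinearMap.restrictScalars_apply,
        Matrix.toLin'_apply]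
      show (g : Matrix (Fin 6) (Fin 6) F) *ᵥ (act (z 0) u1 + act (z 1) u2) = act _ u1 + act _ u2
      rw [hg12]
      simp [Mm, Θ, Matrix.mulVec, dotProduct, Fin.sum_univ_two, mul_comm]
    have h1 : LinearMap.det (Matrix.toLin' (g : Matrix (Fin 6) (Fin 6) F)) = 1 := by
      rw [LinearMap.det_toLin', ← Matrix.GeneralLinearGroup.val_det_apply]
      exact congrArg (fun z : Fˣ => (z : F)) (show Matrix.GeneralLinearGroup.det g = 1 from hgU.2)
    rw [hLg, LinearMap.det_conj, LinearMap.det_comp, hΘdet, mul_one, LinearMap.det_restrictScalars,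
      LinearMap.det_toLin', hMdet] at h1
    exact h1
  have hδ21 : δ ^ 21 = 1 := by
    rw [map_mul, hnν, mul_one] at hdet
    have := FiniteField.algebraMap_norm_eq_pow (K := F) (x := δ)
    rw [hdet, map_one, hKc, Nat.card_eq_fintype_card, hF] at this
    exact this.symm.trans rfl
  have hη : δ ^ 3 = 1 := by
    have h8 : (δ ^ 3) ^ 8 = δ ^ 3 := by
      rw [← pow_mul, show 3 * 8 = 21 + 3 by norm_num, pow_add, hδ21, one_mul]
    have h1 := hroot _ h8
    have h2' : δ ^ 3 * δ ^ 3 = 1 := by
      conv_lhs => arg 2; rw [← h1]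
      rw [map_pow, ← mul_pow, hδ1, one_pow]
    have h3 : (δ ^ 3 - 1) * (δ ^ 3 - 1) = 0 := by linear_combination h2' + (1 - δ ^ 3) * hK2
    exact sub_eq_zero.1 (mul_self_eq_zero.1 h3)
  obtain ⟨c₀, hc₀⟩ : ∃ c₀ : F, algebraMap F K c₀ = δ := by
    have hwK : (algebraMap F K w) ^ 2 = algebraMap F K w + 1 := by rw [← map_pow, hw2, map_add, map_one]
    have h0 : (δ - 1) * ((δ - algebraMap F K w) * (δ - (algebraMap F K w + 1))) = 0 := by
      linear_combination hη + (δ - 1) * hwK + (-δ ^ 2 + δ - algebraMap F K w * δ ^ 2 + 2 * algebraMap F K w * δ - algebraMap F K w) * hK2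
    rcases mul_eq_zero.1 h0 with h | h
    · exact ⟨1, by rw [map_one]; exact (sub_eq_zero.1 h).symm⟩
    rcases mul_eq_zero.1 h with h | h
    · exact ⟨w, (sub_eq_zero.1 h).symm⟩
    · exact ⟨w + 1, by rw [map_add, map_one]; exact (sub_eq_zero.1 h).symm⟩
  have hc₀0 : c₀ ≠ 0 := fun h => by
    rw [h, map_zero] at hc₀
    exact one_ne_zero (α := K) (by rw [← hδ1, ← hc₀, zero_mul])
  refine MaxSub.mem_subfieldSubgroup_of_lines fun x hx => ?_
  obtain ⟨u, hu, rfl⟩ := MaxSub.RatVec.eq_mulVec hx
  set y := X u w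
  set yy := θ y * a + θ (τ y) * a'
  obtain ⟨u', hu', hXu'⟩ := hsurj (δ * yy)
  refine ⟨c₀⁻¹, (P : Matrix (Fin 6) (Fin 6) F) *ᵥ u', (MaxSub.ratVec_mulVec _).2 hu', ?_⟩
  rw [hPX u hu, hg12, eq_inv_smul_iff₀ hc₀0, smul_add, ← act_smul, ← act_smul, hPX u' hu', hXu']
  congr 2
  · rw [Algebra.smul_def, hc₀]
  · rw [Algebra.smul_def, hc₀]
    have hθy : τ (θ y) = θ (τ y) := (hθτ y).symm
    have hθy' : τ (θ (τ y)) = θ y := by rw [← hθτ, hττ]
    have hτδ : τ δ = δ * δ := by
      have : τ δ = δ ^ 3 * τ δ := by rw [hη, one_mul]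
      rw [this, pow_succ, mul_assoc, hδ1, mul_one, sq]
    simp only [yy, map_mul, map_add, hθy, hθy', hτδ]
    rw [hbδ, hb'δ]
    ring

end Cfsg.Agent.Lib.UnitSix
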